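import Groth.Agent.FormalPunctLib.Bridge
import Groth.Agent.Formal2VBLib.Punct
import Groth.Agent.Formal2VBLib.Sections
import Groth.Agent.FRpushCmplLib.Transfer

/-!
# From modules to cohomology of restricted tilde modules
-/

set_option autoImplicit false
set_option linter.style.haveILetI false
set_option maxHeartbeats 1000000
universe u

noncomputable section

open CategoryTheory CategoryTheory.Limits AlgebraicGeometry
open FormalPunctLib Formal2VBLib
open FormalLib (hMapA hMapA_comp)

namespace LefFormalLib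

variable {A : Type u} [CommRing A] {I : Ideal A} {M : Type u} [AddCommGroup M] [Module A M]
  {V : (Spec (CommRingCat.of A)).Opens} {G : (V : Scheme.{u}).Modules}
  (e : (restrTilde V).obj (ModuleCat.of A M) ≅ G)

/-- The comparison `H^i(V, N~) → H^i(V, (N~)|_V)`. -/
def hvH (i : ℕ) (N : ModuleCat.{u} A) :
    ((hvDelta A V).F i).obj N →+ Coh.HH (V : Scheme.{u}) ((restrTilde V).obj N) i :=
  FRpushCmplLib.openH V ((tilde.functor (CommRingCat.of A)).obj N) i

theorem hvH_bijective (i : ℕ) (N : ModuleCat.{u} A) : Function.Bijective (hvH (V := V) i N) :=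
  FRpushCmplLib.openH_bijective V _ i

theorem hvH_natural (i : ℕ) {N N' : ModuleCat.{u} A} (φ : N ⟶ N') (x : ((hvDelta A V).F i).obj N) :
    hvH i N' (((hvDelta A V).F i).map φ x) = hMapA (A := A) ((restrTilde V).map φ) i (hvH i N x) :=
  FRpushCmplLib.openH_natural V ((tilde.functor (CommRingCat.of A)).map φ) i x

theorem hMapA_bijective {X : Scheme.{u}} [X.Over (Spec (CommRingCat.of A))] {P P' : X.Modules} (g : P ⟶ P')
    [IsIso g] (i : ℕ) : Function.Bijective (hMapA (A := A) g i) := by
  have hid : ∀ {Q : X.Modules} (f : Q ⟶ Q), f = 𝟙 Q → ∀ x, hMapA (A := A) f i x = x := fun {Q} f hf x => by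
    subst hf
    rw [FormalLib.hMapA_apply]
    exact (congrArg (fun e => Sheaf.H.map e i x) ((SheafOfModules.toSheaf X.ringCatSheaf).map_id Q)).trans
      (Sheaf.H.map_id_apply x)
  refine Function.bijective_iff_has_inverse.2 ⟨hMapA (A := A) (inv g) i, fun x => ?_, fun x => ?_⟩
  · exact (hMapA_comp g (inv g) i x).trans (hid _ (IsIso.hom_inv_id g) x)
  · exact (hMapA_comp (inv g) g i x).trans (hid _ (IsIso.inv_hom_id g) x)

/-- The comparison at level `n`. -/
def lvl (n : ℕ) : (restrTilde V).obj (qn I M n) ⟶ Formal.modPow I (n + 1) G :=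
  haveI := isIso_quotCmp V I M n
  inv (quotCmp V I M n) ≫ modMap I (n + 1) e.hom

theorem map_qπ_lvl (n : ℕ) :
    (restrTilde V).map (qπ I M n) ≫ lvl e n = e.hom ≫ Formal.modPowπ I (n + 1) G := by
  haveI := isIso_quotCmp V I M n
  rw [← π_modMap, ← π_quotCmp, lvl]
  simp

theorem lvl_trans (n : ℕ) :
    lvl e (n + 1) ≫ Formal.modPowTrans I (n + 1) G = (restrTilde V).map (qt I M n) ≫ lvl e n := by
  haveI := isIso_quotCmp V I M n
  haveI := isIso_quotCmp V I M (n + 1)
  rw [← cancel_epi (quotCmp V I M (n + 1)), ← Category.assoc (quotCmp V I M (n + 1)) ((restrTilde V).map _),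
    quotCmp_trans, lvl, lvl]
  simp [modMap_trans]

instance isIso_lvl (n : ℕ) : IsIso (lvl (I := I) e n) := by
  haveI := isIso_quotCmp V I M n
  haveI : IsIso (modMap I (n + 1) e.hom) := ⟨modMap I (n + 1) e.inv, by
    constructor <;> rw [← modMap_comp, ← cancel_epi (Formal.modPowπ I (n + 1) _), π_modMap] <;> simp⟩
  unfold lvl
  infer_instance

variable (i : ℕ)

/-- The comparison on the whole. -/
def cmp (x : ((hvDelta A V).F i).obj (ModuleCat.of A M)) : Coh.HH (V : Scheme.{u}) G i :=
  hMapA (A := A) e.hom i (hvH i _ x)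

theorem cmp_bijective : Function.Bijective (cmp e i) :=
  (hMapA_bijective e.hom i).comp (hvH_bijective i _)

/-- The comparison of the levels. -/
def cmpLvl (n : ℕ) (x : ((hvDelta A V).F i).obj (qn I M n)) : Formal.HHmodPow I G i n :=
  hMapA (A := A) (lvl e n) i (hvH i _ x)

theorem cmpLvl_bijective (n : ℕ) : Function.Bijective (cmpLvl (I := I) e i n) :=
  (hMapA_bijective (lvl e n) i).comp (hvH_bijective i _)

theorem toHHmodPow_cmp (n : ℕ) (x : ((hvDelta A V).F i).obj (ModuleCat.of A M)) :
    Formal.toHHmodPow I G i n (cmp e i x) = cmpLvl e i n (((hvDelta A V).F i).map (qπ I M n) x) := by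
  show hMapA (A := A) (Formal.modPowπ I (n + 1) G) i (hMapA (A := A) e.hom i (hvH i _ x)) = _
  rw [cmpLvl, hvH_natural, hMapA_comp, hMapA_comp, map_qπ_lvl]

theorem trans_cmpLvl (n : ℕ) (x : ((hvDelta A V).F i).obj (qn I M (n + 1))) :
    Formal.HHmodPowTrans I G i n (cmpLvl e i (n + 1) x) =
      cmpLvl e i n (((hvDelta A V).F i).map (qt I M n) x) := by
  show hMapA (A := A) (Formal.modPowTrans I (n + 1) G) i (hMapA (A := A) (lvl e (n + 1)) i (hvH i _ x)) = _
  rw [cmpLvl, hvH_natural, hMapA_comp, hMapA_comp, lvl_trans]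

theorem cmpLvl_zero (n : ℕ) : cmpLvl (I := I) e i n 0 = 0 :=
  (congrArg (hMapA (A := A) (lvl e n) i) (map_zero (hvH (V := V) i (qn I M n)))).trans (map_zero _)

include e in
theorem toHHlim_injective
    (h : ∀ x : ((hvDelta A V).F i).obj (ModuleCat.of A M),
      (∀ n, ((hvDelta A V).F i).map (qπ I M n) x = 0) → x = 0) :
    Function.Injective (Formal.toHHlim I G i) := by
  refine (injective_iff_map_eq_zero _).2 fun z hz => ?_
  obtain ⟨x, rfl⟩ := (cmp_bijective e i).2 z
  have hx : x = 0 := h x fun n => (cmpLvl_bijective e i n).1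
    (((toHHmodPow_cmp e i n x).symm.trans (congrFun (congrArg Subtype.val hz) n)).trans
      (cmpLvl_zero e i n).symm)
  rw [hx]
  exact (congrArg (hMapA (A := A) e.hom i) (map_zero (hvH (V := V) i _))).trans (map_zero _)

include e in
theorem toHHlim_bijective (h : FBij ((hvDelta A V).F i) I M) :
    Function.Bijective (Formal.toHHlim I G i) := by
  refine ⟨toHHlim_injective e i h.inj, fun y => ?_⟩
  choose z hz using fun n => (cmpLvl_bijective (I := I) e i n).2 (y.1 n)
  obtain ⟨x, hx⟩ := h.surj z fun n => (cmpLvl_bijective e i n).1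
    (((trans_cmpLvl e i n (z (n + 1))).symm.trans
      ((congrArg _ (hz (n + 1))).trans (y.2 n))).trans (hz n).symm)
  exact ⟨cmp e i x, Subtype.ext (funext fun n =>
    ((toHHmodPow_cmp e i n x).trans (congrArg (cmpLvl e i n) (hx n))).trans (hz n))⟩

end LefFormalLib

end
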