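import Groth.Agent.Formal2AlgzLib.System
import Groth.Agent.LocSuppLib.DepthStalk

/-!
# Coherent modules on a punctured spectrum with a regular element
-/

set_option autoImplicit false
set_option linter.unusedSectionVars false
set_option maxRecDepth 8000

noncomputable section

universe u

open CategoryTheory CategoryTheory.Limits AlgebraicGeometry TopologicalSpace Opposite
open CohCmpLib (stk)
open KoszLcLib (scal)
open Formal2VBLib (stalkHom)
open Formal2AlgzLib

namespace LefFormalLib

variable {A : Type u} [CommRing A] [IsNoetherianRing A] {𝔞 : Ideal A}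

theorem smul_injective_of_mono {G : (PU 𝔞).Modules} {t : A} [Mono (Formal.smulMod A G t)] (s : S G)
    (h : t • s = 0) : s = 0 := by
  refine eq_zero_of_gS G s fun y => ?_
  have hinj : Function.Injective ((DerSch.stalkFunctor (PU 𝔞) y).map (Formal.smulMod A G t)).hom :=
    (ModuleCat.mono_iff_injective _).1 inferInstance
  refine hinj ?_
  rw [map_zero, ← gS_secL, secL_smulMod, h, map_zero]

/-- A coherent module on the punctured spectrum on which `t` is injective comes from a finite module on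
which `t` is regular. -/
theorem exists_model (G : (PU 𝔞).Modules) (hG : Coh.IsCoh G) (t : A) [Mono (Formal.smulMod A G t)] :
    ∃ N : Submodule A (S G), Module.Finite A N ∧ IsSMulRegular N t ∧
      (∀ (y : PU 𝔞) (c : stk G y), ∃ s ∉ (pr y).asIdeal, ∃ x : N, gS G y (x : S G) = stalkHom A y s • c) ∧
      Nonempty (FM 𝔞 (ModuleCat.of A N) ≅ G) := by
  obtain ⟨fs, hfs⟩ := LocCohLib.exists_list_span 𝔞
  obtain ⟨N, hNfg, hNtor⟩ := KoszLcLib.exists_finite_sections 𝔞 fs hfs G hG
  haveI : Module.Finite A N := Module.Finite.iff_fg.2 hNfg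
  haveI : Coh.IsQCoh G := hG.1
  let M : ModuleCat.{u} A := ModuleCat.of A N
  have hex : ∀ (y : PU 𝔞) (c : stk G y), ∃ s ∉ (pr y).asIdeal, ∃ x : N,
      gS G y (x : S G) = stalkHom A y s • c := fun y c => by
    obtain ⟨g, -, hg, s, hs⟩ := exists_smul_eq_gS G y c
    obtain ⟨m, hm⟩ := hNtor (Submodule.Quotient.mk s)
    obtain ⟨b, hb, hby⟩ := Set.not_subset.1 (not_le_pr y)
    refine ⟨b ^ m * g, fun e => ((pr y).isPrime.mem_or_mem e).elim
      (fun e' => hby ((pr y).isPrime.mem_of_pow_mem m e')) hg,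
      ⟨b ^ m • s, (Submodule.Quotient.mk_eq_zero _).1
        ((Submodule.Quotient.mk_smul _ _ s).trans (hm _ (Ideal.pow_mem_pow hb m)))⟩, ?_⟩
    show gS G y (b ^ m • s) = _
    rw [gS_smul, hs, map_mul, mul_smul]
  let φ : FM 𝔞 M ⟶ G := Θ (M := M) N.subtype
  have hφ : IsIso φ := KFlatLib.isIso_of_stalks _ fun y => by
    let F := DerSch.stalkFunctor (PU 𝔞) y
    have hgerm : ∀ z : N, (F.map φ).hom (gS _ y (toF M z)) = gS G y (z : S G) := fun z => by
      rw [← gS_secL]
      exact congrArg (gS G y) (secL_Θ_toF (M := M) N.subtype z)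
    refine (ConcreteCategory.isIso_iff_bijective _).mpr ⟨?_, fun c => ?_⟩
    · refine (injective_iff_map_eq_zero (F.map φ).hom).2 fun a ha => ?_
      obtain ⟨g, hg, z, hz⟩ := exists_smul_eq_gS_toF M y a
      have h0 : gS G y ((z : N) : S G) = 0 := by rw [← hgerm, hz, map_smul, ha, smul_zero]
      obtain ⟨h, -, hh, hh0⟩ := exists_smul_eq_zero_of_gS G y _ h0
      have h1 : stalkHom A y (h * g) • a = 0 := by
        rw [map_mul, mul_smul, ← hz, ← gS_smul, ← map_smul]
        rw [show h • (show N from z) = 0 from Subtype.ext hh0]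
        exact (congrArg _ (map_zero (toF M))).trans (map_zero _)
      exact (isUnit_stalkHom fun e => ((pr y).isPrime.mem_or_mem e).elim hh hg).smul_eq_zero.1 h1
    · obtain ⟨s, hs, x, hx⟩ := hex y c
      obtain ⟨v, hv⟩ := isUnit_iff_exists_inv.1 (isUnit_stalkHom (y := y) hs)
      refine ⟨v • gS _ y (toF M x), ?_⟩
      rw [map_smul, hgerm, hx, smul_smul, mul_comm v, hv, one_smul]
  refine ⟨N, inferInstance, fun x x' h => ?_, hex, ⟨asIso φ⟩⟩
  refine Subtype.ext (sub_eq_zero.1 (smul_injective_of_mono (t := t) ((x : S G) - (x' : S G)) ?_))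
  rw [smul_sub, sub_eq_zero]
  exact congrArg Subtype.val h

/-- Depth of the stalks in terms of the module. -/
theorem le_depth_stalk_iff (G : (PU 𝔞).Modules) [Coh.IsQCoh G] (N : Submodule A (S G)) [Module.Finite A N]
    (hex : ∀ (y : PU 𝔞) (c : stk G y), ∃ s ∉ (pr y).asIdeal, ∃ x : N, gS G y (x : S G) = stalkHom A y s • c)
    (y : PU 𝔞) (n : ℕ) :
    (n : ℕ∞) ≤ LocCoh.depth ((PU 𝔞).presheaf.stalk y) (stk G y) ↔
      (n : ℕ∞) ≤ LocCoh.depth (Localization.AtPrime (pr y).asIdeal)
        (LocalizedModule (pr y).asIdeal.primeCompl N) := by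
  letI : Algebra A ((PU 𝔞).presheaf.stalk y) := (stalkHom A y).toAlgebra
  letI : Module A (stk G y) := Module.compHom _ (stalkHom A y)
  haveI : IsScalarTower A ((PU 𝔞).presheaf.stalk y) (stk G y) :=
    IsScalarTower.of_algebraMap_smul fun _ _ => rfl
  haveI : IsLocalization.AtPrime ((PU 𝔞).presheaf.stalk y) (pr y).asIdeal := isLocalization_stalkHom y
  let g : N →ₗ[A] stk G y :=
    { toFun := fun z => gS G y (z : S G)
      map_add' := fun z z' => map_add (gS G y) (z : S G) (z' : S G)
      map_smul' := fun a z => gS_smul G y a (z : S G) }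
  haveI : IsLocalizedModule (pr y).asIdeal.primeCompl g := by
    refine ⟨fun s => ?_, fun c => ?_, fun {z z'} h => ?_⟩
    · have hu : IsUnit (stalkHom A y (s : A)) := isUnit_stalkHom s.2
      rw [Module.End.isUnit_iff]
      exact ⟨fun c c' hc => hu.smul_left_cancel.1 hc, fun c => ⟨hu.unit⁻¹ • c, by
        show stalkHom A y (s : A) • (hu.unit⁻¹ • c) = c
        rw [Units.smul_def, smul_smul, hu.mul_val_inv, one_smul]⟩⟩
    · obtain ⟨s, hs, x, hx⟩ := hex y c
      exact ⟨(x, ⟨s, hs⟩), hx.symm⟩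
    · have h0 : gS G y ((z : S G) - (z' : S G)) = 0 := by
        rw [map_sub]
        exact sub_eq_zero.2 h
      obtain ⟨k, -, hk, hk0⟩ := exists_smul_eq_zero_of_gS G y _ h0
      refine ⟨⟨k, hk⟩, Subtype.ext ?_⟩
      show k • (z : S G) = k • (z' : S G)
      rwa [smul_sub, sub_eq_zero] at hk0
  exact LocSuppLib.le_depth_iff_localization (pr y).asIdeal g n

end LefFormalLib

end
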