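import Groth.Agent.LefFormalLib.Alg
import Groth.Agent.LefFormalLib.Bridge
import Groth.Agent.LefFormalLib.Extend
import Groth.Agent.S2930

/-!
# The comparison with the completion for the complement of a closed subset
-/

set_option autoImplicit false
set_option linter.style.haveILetI false
set_option maxHeartbeats 1000000
universe u

noncomputable section

open CategoryTheory AlgebraicGeometry
open Groth.Agent FormalPunctLib

namespace LefFormalLib

variable {A : Type u} [CommRing A] [IsNoetherianRing A] (J : Ideal A) {t : A}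
  [IsAdicComplete (Ideal.span {t}) A] (M : Type u) [AddCommGroup M] [Module A M] [Module.Finite A M]
  (hreg : IsSMulRegular M t)

include hreg in
theorem fBij_hv {n : ℕ} (hfin : ∀ j, j ≤ n + 1 → Module.Finite A (LocCoh.H J j M)) {i : ℕ} (hi : i < n) :
    FBij ((hvDelta A (LocCoh.puncturedOpen A J)).F i) (Ideal.span {t}) M :=
  (formalCohBijective_iff _ M i _).1 (formalCohBijective_of_lc n
    (fun j hj => fBij_lc J M hreg (hfin j (by omega)) (hfin (j + 1) (by omega)))
    (fun j hj => fML_lc J M hreg (hfin (j + 1) (by omega))) i hi)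

include hreg in
theorem inj_hv_zero (h0 : Module.Finite A (LocCoh.H J 0 M)) (h1 : Module.Finite A (LocCoh.H J 1 M))
    (x : (HP J 0).obj (ModuleCat.of A M))
    (hx : ∀ n, ((HP J 0).map (qπ (Ideal.span {t}) M n)).hom x = 0) : x = 0 := by
  have hκ : κP J (ModuleCat.of A M) x = 0 := inj_lc J M hreg h1 _ fun n =>
    (κP_natural' J (qπ (Ideal.span {t}) M n) x).symm.trans (by rw [hx n, map_zero])
  obtain ⟨m, rfl⟩ := (κP_eq_zero_iff J _ x).1 hκ
  obtain ⟨γ, hγ, hγn⟩ := torsion_lift (fBij_lc J M hreg h0 h1)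
    (fun n => (qπ (Ideal.span {t}) M n).hom m)
    (fun n => (ηP_eq_zero_iff J _ _).1 ((ηP_natural J (qπ (Ideal.span {t}) M n) m).symm.trans (hx n)))
    (fun n => qt_apply (Ideal.span {t}) M n m)
  have hm : m - γ = 0 := qm_bijective.1 _ fun n => by rw [map_sub, hγn, sub_self]
  exact (ηP_eq_zero_iff J _ m).2 (sub_eq_zero.1 hm ▸ hγ)

include hreg in
theorem inj_hv {n : ℕ} (hfin : ∀ j, j ≤ n + 1 → Module.Finite A (LocCoh.H J j M))
    (x : (HP J n).obj (ModuleCat.of A M))
    (hx : ∀ k, ((HP J n).map (qπ (Ideal.span {t}) M k)).hom x = 0) : x = 0 := by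
  cases n with
  | zero => exact inj_hv_zero J M hreg (hfin 0 (by omega)) (hfin 1 le_rfl) x hx
  | succ m =>
    let e := punctIso J (m + 1) (by omega)
    have h := inj_lc J M hreg (hfin (m + 1 + 1) le_rfl) ((e.hom.app _).hom x) fun k =>
      (ConcreteCategory.congr_hom (e.hom.naturality (qπ (Ideal.span {t}) M k)) x).symm.trans
        ((congrArg (e.hom.app _).hom (hx k)).trans (map_zero _))
    exact (e.hom_inv_id_app_apply _ x).symm.trans ((congrArg (e.inv.app _).hom h).trans (map_zero _))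

theorem relCodim_eq_one {I : Ideal A} {p q : PrimeSpectrum A} (hp : ¬ I ≤ p.asIdeal) (hq : I ≤ q.asIdeal)
    (hpq : p ⋖ q) : SGA2.relCodim I p = 1 := by
  refine le_antisymm ((iInf_le _ ⟨q, hpq.le, hq⟩).trans ?_) (le_iInf fun q' => ?_)
  · refine Order.height_le_coe_iff.2 fun b hb => ?_
    have hb' : b.1 = p := by
      by_contra h
      exact hpq.2 (lt_of_le_of_ne b.2 (Ne.symm h)) hb
    rw [Nat.cast_one, Order.height_eq_zero.2 fun c hc => ?_]
    · exact zero_lt_one
    · show b.1 ≤ c.1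
      rw [hb']
      exact c.2
  · refine ENat.one_le_iff_ne_zero.2 fun h => ?_
    have hmin := Order.height_eq_zero.1 h
    exact hp (q'.2.2.trans (hmin (b := ⟨p, le_refl p⟩) q'.2.1))

theorem toHHlim_of_punct (R : Type u) [CommRing R] [IsRegularRing R] (π : R →+* A) (hπ : Function.Surjective π)
    (F : (↑(LocCoh.puncturedOpen A J) : Scheme.{u}).Modules) (hF : Coh.IsCoh F)
    (hmono : Mono (Formal.smulMod A F t)) (n : ℕ)
    (hdepth : ∀ y : (↑(LocCoh.puncturedOpen A J) : Scheme.{u}),
      SGA2.relCodim J (Formal2AlgzLib.pr y) = 1 →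
        ((n + 1 : ℕ) : ℕ∞) ≤ LocCoh.depth ((↑(LocCoh.puncturedOpen A J) : Scheme.{u}).presheaf.stalk y)
          (F.presheaf.stalk y)) (i : ℕ) :
    (i < n → Function.Bijective (Formal.toHHlim (Ideal.span {t}) F i)) ∧
      (i = n → Function.Injective (Formal.toHHlim (Ideal.span {t}) F i)) := by
  haveI := hmono
  haveI := hF.1
  obtain ⟨N, hNfin, hN, hex, ⟨e⟩⟩ := exists_model F hF t
  haveI := hNfin
  have hfin : ∀ j, j ≤ n + 1 → Module.Finite A (LocCoh.H J j N) := by
    refine (Groth.Agent.S2930.result R A π hπ J N (n + 1)).2 fun p q hp hq hpq => ?_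
    exact (le_depth_stalk_iff F N hex ⟨p, hp⟩ (n + 1)).1 (hdepth _ (relCodim_eq_one hp hq hpq))
  refine ⟨fun hi => toHHlim_bijective e i (fBij_hv J N hN hfin hi), ?_⟩
  rintro rfl
  exact toHHlim_injective e i (inj_hv J N hN hfin)

theorem toHHlim_of_eq (R : Type u) [CommRing R] [IsRegularRing R] (π : R →+* A) (hπ : Function.Surjective π)
    {V : (Spec (CommRingCat.of A)).Opens} (hV : V = LocCoh.puncturedOpen A J)
    (F : (↑V : Scheme.{u}).Modules) (hF : Coh.IsCoh F) (hmono : Mono (Formal.smulMod A F t)) (n : ℕ)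
    (hdepth : ∀ y : (↑V : Scheme.{u}), SGA2.relCodim J (V.ι.base y) = 1 →
        ((n + 1 : ℕ) : ℕ∞) ≤ LocCoh.depth ((↑V : Scheme.{u}).presheaf.stalk y) (F.presheaf.stalk y)) (i : ℕ) :
    (i < n → Function.Bijective (Formal.toHHlim (Ideal.span {t}) F i)) ∧
      (i = n → Function.Injective (Formal.toHHlim (Ideal.span {t}) F i)) := by
  subst hV
  exact toHHlim_of_punct J R π hπ F hF hmono n hdepth i

end LefFormalLib

end
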