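import Groth.Agent.FormalPunctLib.Principal
import Groth.Agent.FormalPunctLib.PrincipalColim

/-!
# Finite local cohomology and the completion along a regular element
-/

set_option autoImplicit false
set_option linter.style.haveILetI false
set_option maxHeartbeats 1000000
universe u

noncomputable section

open CategoryTheory
open Groth.Agent LocCohLib FormalPunctLib

namespace LefFormalLib

variable {A : Type u} [CommRing A] [IsNoetherianRing A] (J : Ideal A) {t : A} (M : Type u) [AddCommGroup M]
  [Module A M] (hreg : IsSMulRegular M t)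

variable (t) in
/-- `0 → M → M → M/t^(n+1)M → 0`. -/
def seq (n : ℕ) : ShortComplex (ModuleCat.{u} A) :=
  ShortComplex.mk (t ^ (n + 1) • 𝟙 (ModuleCat.of A M)) (qπ (Ideal.span {t}) M n)
    (ModuleCat.hom_ext (LinearMap.ext fun x => (Submodule.Quotient.mk_eq_zero _).2
      (Submodule.smul_mem_smul (Ideal.pow_mem_pow (Ideal.mem_span_singleton_self t) _) Submodule.mem_top)))

include hreg in
theorem seq_shortExact (n : ℕ) : (seq t M n).ShortExact := by
  have h : Function.Exact (t ^ (n + 1) • (LinearMap.id : M →ₗ[A] M)) (qπ (Ideal.span {t}) M n).hom :=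
    fun x => ⟨fun hx => by
      obtain ⟨m, hm⟩ := (mem_pow_smul t M).1 ((Submodule.Quotient.mk_eq_zero _).1 hx)
      exact ⟨m, hm⟩, by
      rintro ⟨m, rfl⟩
      exact (Submodule.Quotient.mk_eq_zero _).2 ((mem_pow_smul t M).2 ⟨m, rfl⟩)⟩
  exact shortExact_of (f := t ^ (n + 1) • (LinearMap.id : M →ₗ[A] M)) (fun a b hab => hreg.pow (n + 1) hab) h (Submodule.mkQ_surjective _)

variable (t) in
/-- From one level down to a lower one. -/
def down {n k : ℕ} (h : n ≤ k) : seq t M k ⟶ seq t M n where
  τ₁ := t ^ (k - n) • 𝟙 _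
  τ₂ := 𝟙 _
  τ₃ := qT (Ideal.span {t}) M h
  comm₁₂ := ModuleCat.hom_ext (LinearMap.ext fun x => by
    show t ^ (n + 1) • t ^ (k - n) • x = t ^ (k + 1) • x
    rw [smul_smul, ← pow_add]
    congr 2
    omega)
  comm₂₃ := ModuleCat.hom_ext (LinearMap.ext fun x => (qT_apply (Ideal.span {t}) M h x).symm)

theorem qT_succ (I : Ideal A) (n : ℕ) : qT I M (Nat.le_succ n) = qt I M n :=
  ModuleCat.hom_ext (Submodule.linearMap_qext _ (LinearMap.ext fun x =>
    (qT_apply I M (Nat.le_succ n) x).trans (qt_apply I M n x).symm))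

theorem map_pow_smul (k i : ℕ) (x : LocCoh.H J i M) :
    ((localCohomology J i).map (t ^ k • 𝟙 (ModuleCat.of A M))).hom x = t ^ k • x := by
  rw [LocCohLib.map_smul_id]
  rfl

/-- Bounded torsion. -/
theorem exists_bound (N : Type u) [AddCommGroup N] [Module A N] [Module.Finite A N] :
    ∃ c : ℕ, ∀ (n : ℕ) (x : N), c ≤ n → t ^ n • x = 0 → t ^ c • x = 0 := by
  haveI : IsNoetherian A N := inferInstance
  obtain ⟨c, hc⟩ := monotone_stabilizes_iff_noetherian.2 (inferInstance : IsNoetherian A N)
    ⟨fun n => LinearMap.ker (t ^ n • (LinearMap.id : N →ₗ[A] N)), fun a b hab x hx => by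
      rw [LinearMap.mem_ker] at hx ⊢
      obtain ⟨e, rfl⟩ := Nat.exists_eq_add_of_le hab
      show t ^ (a + e) • x = 0
      rw [add_comm a e, pow_add, mul_smul, show t ^ a • x = 0 from hx, smul_zero]⟩
  exact ⟨c, fun n x hn h0 => (hc n hn).ge (show x ∈ LinearMap.ker (t ^ n • (LinearMap.id : N →ₗ[A] N)) from h0)⟩

/-- The connecting map at level `n`. -/
def conn (i n : ℕ) : (localCohomology J i).obj (qn (Ideal.span {t}) M n) →ₗ[A] LocCoh.H J (i + 1) M :=
  ((lcDelta J).δ (seq_shortExact M hreg n) i).hom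

theorem conn_qT {n k : ℕ} (h : n ≤ k) (i : ℕ) (y : (localCohomology J i).obj (qn (Ideal.span {t}) M k)) :
    conn J M hreg i n (((localCohomology J i).map (qT (Ideal.span {t}) M h)).hom y) =
      t ^ (k - n) • conn J M hreg i k y :=
  ((ConcreteCategory.congr_hom ((lcDelta J).δ_natural (seq_shortExact M hreg k) (seq_shortExact M hreg n)
    (down t M h) i) y).symm).trans (map_pow_smul J M (k - n) (i + 1) _)

theorem pow_smul_conn (i n : ℕ) (y : (localCohomology J i).obj (qn (Ideal.span {t}) M n)) :
    t ^ (n + 1) • conn J M hreg i n y = 0 :=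
  (map_pow_smul J M (n + 1) (i + 1) _).symm.trans
    (ConcreteCategory.congr_hom ((lcDelta J).δ_comp_map (seq_shortExact M hreg n) i) y)

include hreg in
theorem exists_of_conn {i n : ℕ} {y : (localCohomology J i).obj (qn (Ideal.span {t}) M n)}
    (h : conn J M hreg i n y = 0) :
    ∃ x : LocCoh.H J i M, ((localCohomology J i).map (qπ (Ideal.span {t}) M n)).hom x = y :=
  (ShortComplex.moduleCat_exact_iff _).1 ((lcDelta J).exact₃ (seq_shortExact M hreg n) i) y h

include hreg in
theorem map_qπ_eq_zero_iff (i n : ℕ) (x : LocCoh.H J i M) :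
    ((localCohomology J i).map (qπ (Ideal.span {t}) M n)).hom x = 0 ↔
      x ∈ (Ideal.span {t} ^ (n + 1) • ⊤ : Submodule A (LocCoh.H J i M)) := by
  haveI : (localCohomology J i).PreservesZeroMorphisms := (lcDelta J).preservesZero i
  rw [mem_pow_smul]
  refine ⟨fun h => ?_, ?_⟩
  · obtain ⟨z, hz⟩ := (ShortComplex.moduleCat_exact_iff _).1
      ((lcDelta J).exact₂ (seq_shortExact M hreg n) i) x h
    exact ⟨z, (map_pow_smul J M (n + 1) i z).symm.trans hz⟩
  · rintro ⟨z, rfl⟩
    rw [← map_pow_smul J M (n + 1) i z, ← ConcreteCategory.comp_apply, ← Functor.map_comp]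
    exact (ConcreteCategory.congr_hom (congrArg (localCohomology J i).map (seq t M n).zero) z).trans
      (by rw [Functor.map_zero]; rfl)

variable [IsAdicComplete (Ideal.span {t}) A]

include hreg in
theorem inj_lc {i : ℕ} (hf : Module.Finite A (LocCoh.H J i M)) (x : LocCoh.H J i M)
    (h : ∀ n, ((localCohomology J i).map (qπ (Ideal.span {t}) M n)).hom x = 0) : x = 0 := by
  haveI := Groth.Agent.DRingLib.isAdicComplete_of_finite (I := Ideal.span {t}) (LocCoh.H J i M)
  refine IsHausdorff.haus (inferInstance : IsHausdorff (Ideal.span {t}) (LocCoh.H J i M)) _ fun n => ?_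
  cases n with
  | zero => simp [SModEq.zero]
  | succ n =>
    rw [SModEq.zero]
    exact (map_qπ_eq_zero_iff J M hreg i n x).1 (h n)

include hreg in
theorem fBij_lc {i : ℕ} (hf : Module.Finite A (LocCoh.H J i M))
    (hf' : Module.Finite A (LocCoh.H J (i + 1) M)) : FBij (LC J i) (Ideal.span {t}) M := by
  refine ⟨inj_lc J M hreg hf, fun y hy => ?_⟩
  let I := Ideal.span {t}
  let F := localCohomology J i
  obtain ⟨c, hc⟩ := exists_bound (t := t) (LocCoh.H J (i + 1) M)
  have hT : ∀ n k (h : n ≤ k), (F.map (qT I M h)).hom (y k) = y n := by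
    intro n k h
    induction k, h using Nat.le_induction with
    | base => exact (ConcreteCategory.congr_hom (congrArg F.map (qT_self I M n)) (y n)).trans (by rw [F.map_id]; all_goals rfl)
    | succ k h ih =>
      rw [← qT_qt I M h, F.map_comp]
      exact (congrArg (F.map (qT I M h)).hom (hy k)).trans ih
  have hw : ∀ n, conn J M hreg i n (y n) = 0 := fun n => by
    rw [← hT n (n + c) (Nat.le_add_right n c), conn_qT, Nat.add_sub_cancel_left]
    exact hc (n + c + 1) _ (by omega) (pow_smul_conn J M hreg i _ _)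
  choose x hx using fun n => exists_of_conn J M hreg (hw n)
  have hstep : ∀ n, x (n + 1) - x n ∈ (I ^ (n + 1) • ⊤ : Submodule A (LocCoh.H J i M)) := fun n => by
    rw [← map_qπ_eq_zero_iff J M hreg i n, map_sub, hx, ← qπ_qt I M n, F.map_comp]
    exact sub_eq_zero.2 ((congrArg (F.map (qt I M n)).hom (hx (n + 1))).trans (hy n))
  have hdiff : ∀ n k, n ≤ k → x k - x n ∈ (I ^ (n + 1) • ⊤ : Submodule A (LocCoh.H J i M)) := by
    intro n k h
    induction k, h using Nat.le_induction with
    | base => rw [sub_self]; exact zero_mem _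
    | succ k h ih =>
      rw [← sub_add_sub_cancel (x (k + 1)) (x k) (x n)]
      exact add_mem (Submodule.smul_mono_left (Ideal.pow_le_pow_right (by omega)) (hstep k)) ih
  haveI := Groth.Agent.DRingLib.isAdicComplete_of_finite (I := I) (LocCoh.H J i M)
  obtain ⟨L, hL⟩ := IsPrecomplete.prec (inferInstance : IsPrecomplete I (LocCoh.H J i M))
    (f := fun n => x (n - 1)) fun {a b} hab => by
      cases a with
      | zero => simp [SModEq.def, Submodule.Quotient.eq]
      | succ a =>
        rw [SModEq.def, Submodule.Quotient.eq, Nat.succ_sub_one, ← neg_mem_iff, neg_sub]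
        exact hdiff a (b - 1) (by omega)
  refine ⟨L, fun n => ?_⟩
  have h := (Submodule.Quotient.eq _).1 (hL (n + 1))
  rw [Nat.add_sub_cancel, ← map_qπ_eq_zero_iff J M hreg i n, map_sub, sub_eq_zero, hx] at h
  exact h.symm

include hreg in
theorem fML_lc {i : ℕ} (hf' : Module.Finite A (LocCoh.H J (i + 1) M)) :
    FML (LC J i) (Ideal.span {t}) M := by
  let I := Ideal.span {t}
  let F := localCohomology J i
  obtain ⟨c, hc⟩ := exists_bound (t := t) (LocCoh.H J (i + 1) M)
  intro n
  refine ⟨n + c, Nat.le_add_right n c, fun l hl y => ?_⟩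
  obtain ⟨x, hx⟩ := exists_of_conn J M hreg (n := n)
    (y := (F.map (qT I M (Nat.le_add_right n c))).hom y) (by
      rw [conn_qT, Nat.add_sub_cancel_left]
      exact hc (n + c + 1) _ (by omega) (pow_smul_conn J M hreg i _ _))
  refine ⟨(F.map (qπ I M l)).hom x, Eq.trans ?_ hx⟩
  show (F.map (qT I M _)).hom ((F.map (qπ I M l)).hom x) = _
  rw [← ConcreteCategory.comp_apply, ← F.map_comp]
  exact ConcreteCategory.congr_hom (congrArg F.map (ModuleCat.hom_ext (LinearMap.ext fun m =>
    qT_apply I M ((Nat.le_add_right n c).trans hl) m))) x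

end LefFormalLib

end
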